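import Groth.Prelude.Def_W4c3degenlocivbPfaff
import Mathlib.RingTheory.MvPolynomial.Homogeneous
import Mathlib.LinearAlgebra.Matrix.NonsingularInverse
import Mathlib.Algebra.MvPolynomial.Eval

/-!
# Sub-Pfaffians of a skew matrix of binary linear forms
-/

universe u

namespace Groth.Agent.DegLoci70

open W4c3degenlocivb MvPolynomial
open scoped Matrix

theorem map_pf {R S : Type*} [CommRing R] [CommRing S] (φ : R →+* S) :
    ∀ (n : ℕ) (T : Matrix (Fin n) (Fin n) R), φ (pf n T) = pf n (T.map φ)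
  | 0, _ => by simp [pf]
  | 1, _ => by simp [pf]
  | n + 2, T => by
    simp only [pf, map_sum, map_mul, map_pow, map_neg, map_one, Matrix.map_apply]
    exact Finset.sum_congr rfl fun j _ => by rw [map_pf φ n, Matrix.submatrix_map]

theorem isHomogeneous_pf {R σ : Type*} [CommRing R] :
    ∀ (n : ℕ) (T : Matrix (Fin n) (Fin n) (MvPolynomial σ R)), (∀ i j, (T i j).IsHomogeneous 1) →
      (pf n T).IsHomogeneous (n / 2)
  | 0, _, _ => isHomogeneous_one σ R
  | 1, _, _ => isHomogeneous_zero σ R _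
  | n + 2, T, h => by
    rw [pf, show (n + 2) / 2 = 1 + n / 2 by omega]
    refine IsHomogeneous.sum _ _ _ fun j _ => (?_ : IsHomogeneous _ 1).mul (isHomogeneous_pf n _ fun a b => h _ _)
    have : ((-1 : MvPolynomial σ R) ^ ((j : ℕ) + 1)).IsHomogeneous 0 := by
      simpa using ((isHomogeneous_one σ R).neg).pow ((j : ℕ) + 1)
    simpa using this.mul (h _ _)

/-- The Pfaffian of a matrix vanishing below the first subdiagonal. -/
theorem pf_band {R : Type*} [CommRing R] : ∀ (m : ℕ) (T : Matrix (Fin (2 * m)) (Fin (2 * m)) R) (d : ℕ → R),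
    (∀ a b : Fin (2 * m), (b : ℕ) + 1 < (a : ℕ) → T a b = 0) →
    (∀ a b : Fin (2 * m), Even (b : ℕ) → (a : ℕ) = (b : ℕ) + 1 → T a b = -d ((b : ℕ) / 2)) →
    pf (2 * m) T = ∏ i ∈ Finset.range m, d i
  | 0, _, _, _, _ => by simp [pf]
  | m + 1, T, d, h0, h1 => by
    change pf (2 * m + 2) T = _
    rw [pf, Finset.sum_eq_single (Fin.last (2 * m))]
    · rw [pf_band m _ d, Finset.prod_range_succ, h1 _ _ (by simp) (by simp)]
      · simp [Fin.succAbove_last, pow_add, pow_mul]
        ring
      · exact fun a b hab => h0 _ _ (by simpa [Fin.succAbove_last] using hab)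
      · intro a b hb hab
        rw [Matrix.submatrix_apply, h1 _ _ (by simpa [Fin.succAbove_last] using hb) (by simpa [Fin.succAbove_last] using hab)]
        simp [Fin.succAbove_last]
    · intro j _ hj
      rw [h0 _ _ (by
        have := Fin.val_lt_last hj
        simp only [Fin.val_last, Fin.val_castSucc]
        omega), mul_zero, zero_mul]
    · simp

variable (k : Type u) [Field k] (r : ℕ)

/-- The matrix of linear forms with coefficients `c`. -/
noncomputable def mat {A : Type u} [CommRing A] (c : Fin (2 * r + 1) → Fin (2 * r + 1) → Fin 2 → A) :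
    Matrix (Fin (2 * r + 1)) (Fin (2 * r + 1)) (MvPolynomial (Fin 2) A) :=
  Matrix.of fun a b => ∑ l : Fin 2, C (c a b l) * X l

/-- The exponent of `y₀^t y₁^(r-t)`. -/
noncomputable def expo (t : ℕ) : Fin 2 →₀ ℕ := Finsupp.single 0 t + Finsupp.single 1 (r - t)

/-- The coefficient matrix of the sub-Pfaffians with even index. -/
noncomputable def coeffs {A : Type u} [CommRing A] (c : Fin (2 * r + 1) → Fin (2 * r + 1) → Fin 2 → A) :
    Matrix (Fin (r + 1)) (Fin (r + 1)) A :=
  Matrix.of fun s t => coeff (expo r t) (pf (2 * r) ((mat r c).submatrix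
    (Fin.succAbove (⟨2 * s, by omega⟩ : Fin (2 * r + 1))) (Fin.succAbove (⟨2 * s, by omega⟩ : Fin (2 * r + 1)))))

theorem coeffs_map {A B : Type u} [CommRing A] [CommRing B] (φ : A →+* B)
    (c : Fin (2 * r + 1) → Fin (2 * r + 1) → Fin 2 → A) :
    (coeffs r c).map φ = coeffs r (fun a b l => φ (c a b l)) := by
  ext s t
  simp only [coeffs, Matrix.map_apply, Matrix.of_apply]
  rw [← coeff_map, map_pf, ← Matrix.submatrix_map]
  rw [show (mat r c).map ⇑(MvPolynomial.map φ) = mat r (fun a b l => φ (c a b l)) from by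
    ext a b : 2; simp [mat]]

/-- The witness: superdiagonal entries alternating between the two variables. -/
def wit (a b : Fin (2 * r + 1)) (l : Fin 2) : k :=
  (if (b : ℕ) = a + 1 ∧ (a : ℕ) % 2 = l then 1 else 0) - (if (a : ℕ) = b + 1 ∧ (b : ℕ) % 2 = l then 1 else 0)

theorem pf_wit (s : Fin (r + 1)) :
    pf (2 * r) ((mat r (wit k r)).submatrix (Fin.succAbove (⟨2 * s, by omega⟩ : Fin (2 * r + 1)))
      (Fin.succAbove (⟨2 * s, by omega⟩ : Fin (2 * r + 1)))) = X 0 ^ (s : ℕ) * X 1 ^ (r - s) := by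
  have hv : ∀ a : Fin (2 * r), ((Fin.succAbove (⟨2 * s, by omega⟩ : Fin (2 * r + 1)) a : Fin (2 * r + 1)) : ℕ) =
      if (a : ℕ) < 2 * s then (a : ℕ) else (a : ℕ) + 1 := fun a => by
    rw [Fin.succAbove]
    by_cases h : (a : ℕ) < 2 * s
    · rw [if_pos (show a.castSucc < ⟨2 * (s : ℕ), _⟩ from h), if_pos h]; rfl
    · rw [if_neg (show ¬ a.castSucc < ⟨2 * (s : ℕ), _⟩ from h), if_neg h]; rfl
  rw [pf_band r _ (fun i => if i < (s : ℕ) then X 0 else X 1)]
  · have hs : (s : ℕ) ≤ r := by omega
    rw [← Finset.prod_range_mul_prod_Ico _ hs]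
    congr 1
    · rw [Finset.prod_congr rfl (fun i hi => if_pos (Finset.mem_range.1 hi))]; simp
    · rw [Finset.prod_congr rfl (fun i hi => if_neg (by have := (Finset.mem_Ico.1 hi).1; omega))]; simp
  · intro a b hab
    simp only [Matrix.submatrix_apply, mat, Matrix.of_apply, Fin.sum_univ_two]
    have h : ∀ l, wit k r (Fin.succAbove (⟨2 * s, by omega⟩ : Fin (2 * r + 1)) a)
        (Fin.succAbove (⟨2 * s, by omega⟩ : Fin (2 * r + 1)) b) l = 0 := fun l => by
      rw [wit, if_neg (by rw [hv, hv]; rintro ⟨h1, -⟩; split_ifs at h1 <;> omega),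
        if_neg (by rw [hv, hv]; rintro ⟨h1, -⟩; split_ifs at h1 <;> omega), sub_zero]
    rw [h, h]; simp
  · intro a b hb hab
    obtain ⟨j, hj⟩ := hb
    simp only [Matrix.submatrix_apply, mat, Matrix.of_apply, Fin.sum_univ_two, wit, hv, Fin.val_zero, Fin.val_one]
    by_cases h : j < (s : ℕ)
    · rw [if_pos (show (b : ℕ) / 2 < s by omega), if_pos (show (a : ℕ) < 2 * s by omega),
        if_pos (show (b : ℕ) < 2 * s by omega)]
      rw [if_neg (by omega), if_pos (by omega), if_neg (by omega), if_neg (by omega)]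
      simp
    · rw [if_neg (show ¬ (b : ℕ) / 2 < s by omega), if_neg (show ¬ (a : ℕ) < 2 * s by omega),
        if_neg (show ¬ (b : ℕ) < 2 * s by omega)]
      rw [if_neg (by omega), if_neg (by omega), if_neg (by omega), if_pos (by omega)]
      simp

theorem det_coeffs_wit : (coeffs r (wit k r)).det = 1 := by
  have : coeffs r (wit k r) = 1 := by
    ext s t
    rw [coeffs, Matrix.of_apply, pf_wit, X_pow_eq_monomial, X_pow_eq_monomial, monomial_mul, one_mul, coeff_monomial,
      Matrix.one_apply]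
    refine if_congr ⟨fun e => Fin.ext ?_, fun e => by rw [e, expo]⟩ rfl rfl
    simpa [expo] using congrArg (fun f : Fin 2 →₀ ℕ => f 0) e
  rw [this, Matrix.det_one]

theorem span_eq_homogeneous (c : Fin (2 * r + 1) → Fin (2 * r + 1) → Fin 2 → k) (hdet : (coeffs r c).det ≠ 0) :
    Submodule.span k (Set.range fun i : Fin (2 * r + 1) =>
        pf (2 * r) ((mat r c).submatrix i.succAbove i.succAbove)) =
      MvPolynomial.homogeneousSubmodule (Fin 2) k r := by
  have hh : ∀ i : Fin (2 * r + 1), (pf (2 * r) ((mat r c).submatrix i.succAbove i.succAbove)).IsHomogeneous r := fun i => by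
    have := isHomogeneous_pf (2 * r) ((mat r c).submatrix i.succAbove i.succAbove) fun a b =>
      show (∑ l : Fin 2, C (c (i.succAbove a) (i.succAbove b) l) * X l).IsHomogeneous 1 from
        IsHomogeneous.sum _ _ _ fun l _ => isHomogeneous_C_mul_X _ _
    rwa [Nat.mul_div_cancel_left r two_pos] at this
  refine le_antisymm (Submodule.span_le.2 (Set.range_subset_iff.2 hh)) fun p hp => ?_
  rw [mem_homogeneousSubmodule] at hp
  rw [← p.support_sum_monomial_coeff]
  refine Submodule.sum_mem _ fun d hd => ?_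
  have hdeg : d 0 + d 1 = r := by
    have := hp (mem_support_iff.1 hd)
    simpa [Finsupp.weight_apply, Finsupp.sum_fintype, Fin.sum_univ_two] using this
  obtain ⟨t, ht⟩ : ∃ t : Fin (r + 1), expo r t = d := ⟨⟨d 0, by omega⟩, by
    ext i; fin_cases i <;> simp [expo]; omega⟩
  have hM : ((coeffs r c)⁻¹ * coeffs r c) = 1 := Matrix.nonsing_inv_mul _ (isUnit_iff_ne_zero.2 hdet)
  suffices h : monomial d (1 : k) = ∑ s : Fin (r + 1), (coeffs r c)⁻¹ t s •
      pf (2 * r) ((mat r c).submatrix (Fin.succAbove (⟨2 * s, by omega⟩ : Fin (2 * r + 1)))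
        (Fin.succAbove (⟨2 * s, by omega⟩ : Fin (2 * r + 1)))) by
    rw [show monomial d (p.coeff d) = p.coeff d • monomial d (1 : k) by rw [smul_monomial, smul_eq_mul, mul_one], h]
    exact Submodule.smul_mem _ _ (Submodule.sum_mem _ fun s _ => Submodule.smul_mem _ _ (Submodule.subset_span ⟨_, rfl⟩))
  ext e
  by_cases he : e 0 + e 1 = r
  · obtain ⟨t', rfl⟩ : ∃ t' : Fin (r + 1), expo r t' = e := ⟨⟨e 0, by omega⟩, by
      ext i; fin_cases i <;> simp [expo]; omega⟩
    have := congrFun (congrFun hM t) t'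
    rw [Matrix.mul_apply, Matrix.one_apply] at this
    simp only [coeff_sum, coeff_smul, coeff_monomial, smul_eq_mul]
    rw [show (if d = expo r t' then (1 : k) else 0) = if t = t' then 1 else 0 from
      if_congr ⟨fun h => Fin.ext (by simpa [expo] using congrArg (fun f : Fin 2 →₀ ℕ => f 0) (ht.trans h)),
        fun h => by rw [← ht, h]⟩ rfl rfl, ← this]
    rfl
  · rw [coeff_monomial, if_neg (by rintro rfl; exact he hdeg), coeff_sum]
    refine (Finset.sum_eq_zero fun s _ => ?_).symm
    rw [coeff_smul, (hh _).coeff_eq_zero]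
    · simp
    · simpa [Finsupp.degree_eq_sum, Fin.sum_univ_two] using he

/-- For a general skew matrix of binary linear forms the sub-Pfaffians span all forms of degree `r`. -/
theorem exists_general :
    ∃ Φ : MvPolynomial (Fin (2 * r + 1) × Fin (2 * r + 1) × Fin 2) k,
      (∃ c : Fin (2 * r + 1) → Fin (2 * r + 1) → Fin 2 → k, (∀ i j l, c j i l = -c i j l) ∧
        eval (fun p => c p.1 p.2.1 p.2.2) Φ ≠ 0) ∧
      ∀ c : Fin (2 * r + 1) → Fin (2 * r + 1) → Fin 2 → k,
        eval (fun p => c p.1 p.2.1 p.2.2) Φ ≠ 0 →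
        Submodule.span k (Set.range fun i : Fin (2 * r + 1) =>
            pf (2 * r) ((mat r c).submatrix i.succAbove i.succAbove)) =
          MvPolynomial.homogeneousSubmodule (Fin 2) k r := by
  let g : Fin (2 * r + 1) → Fin (2 * r + 1) → Fin 2 → MvPolynomial (Fin (2 * r + 1) × Fin (2 * r + 1) × Fin 2) k :=
    fun a b l => X (a, b, l)
  have he : ∀ c : Fin (2 * r + 1) → Fin (2 * r + 1) → Fin 2 → k,
      eval (fun p => c p.1 p.2.1 p.2.2) (coeffs r g).det = (coeffs r c).det := fun c => by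
    rw [RingHom.map_det, RingHom.mapMatrix_apply, coeffs_map]
    simp [g]
  refine ⟨(coeffs r g).det, ⟨wit k r, fun i j l => by simp [wit], ?_⟩, fun c hc => span_eq_homogeneous k r c (by rwa [he] at hc)⟩
  rw [he, det_coeffs_wit]
  exact one_ne_zero

end Groth.Agent.DegLoci70
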